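import Groth.Agent.SGA1Torsor.Basic
import Groth.Agent.GITLib.Pushforward
import Groth.Agent.GrpScheme.Basic
import Groth.Agent.Elkik88.Affine
import Groth.Agent.FpqcDesc.Props
import Mathlib.AlgebraicGeometry.Morphisms.LocalFlatDescent
import Groth.Prelude.Def_AlgSt5
import Mathlib.RingTheory.AdicCompletion.Algebra

/-!
# Torsors under affine smooth groups over a principal localisation of a henselian pair
-/

set_option autoImplicit false
set_option linter.style.haveILetI false
set_option backward.isDefEq.respectTransparency false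

universe u

open CategoryTheory MonoidalCategory CartesianMonoidalCategory MonObj GrpObj AlgebraicGeometry Limits

namespace Groth.Agent.GITLib.Elkik

/-- A torsor under an affine smooth group over an affine base is affine and smooth. -/
theorem torsor_props {R : Type u} [CommRing R] {G P : Over (Spec (CommRingCat.of R))} [GrpObj G] [IsAffine G.left]
    [Smooth G.hom] {a : AlgGrp.Action G P} (h : NonAbH1.IsTorsorFor Scheme.fppfPrecoverage a) :
    IsAffine P.left ∧ Smooth P.hom := by
  obtain ⟨Rc, hRc, hs⟩ := h.2
  obtain ⟨B, instB, algB, hB, ⟨s⟩⟩ := SGA1Torsor.exists_point_affine (S := Spec (CommRingCat.of R)) (X := P)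
    ⟨Rc, GITLib.fppfPrecoverage_le_fpqc' _ hRc, hs⟩ (U := ⊤) (isAffineOpen_top _)
  let T : Over (Spec (CommRingCat.of R)) := Over.mk (Spec.map (CommRingCat.ofHom (@algebraMap _ B _ _ algB)) ≫
    (isAffineOpen_top (Spec (CommRingCat.of R))).fromSpec)
  let s' : T ⟶ P := s
  haveI : Flat T.hom := by
    haveI : Flat (Spec.map (CommRingCat.ofHom (@algebraMap _ B _ _ algB))) :=
      (HasRingHomProperty.Spec_iff (P := @Flat)).2 (RingHom.flat_algebraMap_iff.2 inferInstance)
    exact inferInstanceAs (Flat (Spec.map (CommRingCat.ofHom (@algebraMap _ B _ _ algB)) ≫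
      (isAffineOpen_top (Spec (CommRingCat.of R))).fromSpec))
  haveI : Surjective T.hom := by
    haveI : Surjective (Spec.map (CommRingCat.ofHom (@algebraMap _ B _ _ algB))) :=
      ⟨PrimeSpectrum.comap_surjective_of_faithfullyFlat⟩
    haveI : Surjective (isAffineOpen_top (Spec (CommRingCat.of R))).fromSpec := ⟨fun x => by
      have hx : x ∈ Set.range (isAffineOpen_top (Spec (CommRingCat.of R))).fromSpec := by
        rw [IsAffineOpen.range_fromSpec]; trivial
      exact hx⟩
    exact inferInstanceAs (Surjective (Spec.map (CommRingCat.ofHom (@algebraMap _ B _ _ algB)) ≫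
      (isAffineOpen_top (Spec (CommRingCat.of R))).fromSpec))
  haveI : IsAffine T.left := inferInstanceAs (IsAffine (Spec _))
  haveI : QuasiCompact T.hom := inferInstance
  have key : ∀ (Q : MorphismProperty Scheme.{u}) [Q.IsStableUnderBaseChange] [Q.RespectsIso]
      [Q.DescendsAlong (@Surjective ⊓ @Flat ⊓ @QuasiCompact)], Q G.hom → Q P.hom := by
    intro Q _ _ _ hG
    haveI : IsIso (lift a.act (snd G P)) := h.1
    haveI := GrpScheme.Basic.isIso_left (lift a.act (snd G P))
    have h1 : Q (snd P P).left := by
      have e : (lift a.act (snd G P)).left ≫ (snd P P).left = (snd G P).left := by rw [← Over.comp_left, lift_snd]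
      have h' := GrpScheme.Basic.snd_left_mem Q (X := P) hG
      rw [← e] at h'
      exact (MorphismProperty.cancel_left_of_respectsIso Q _ _).mp h'
    have h2 : Q (snd P T).left :=
      MorphismProperty.of_isPullback ((AlgSt.isPullback_whiskerLeft (G := P) s').map (Over.forget _)) h1
    exact MorphismProperty.of_pullback_snd_of_descendsAlong (Q := @Surjective ⊓ @Flat ⊓ @QuasiCompact)
      (g := T.hom) ⟨⟨inferInstance, inferInstance⟩, inferInstance⟩ h2
  haveI : IsAffineHom G.hom := inferInstance
  haveI := FpqcDesc.descendsAlong_isAffineHom.{u}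
  haveI : IsAffineHom P.hom := key @IsAffineHom inferInstance
  exact ⟨isAffine_of_isAffineHom P.hom, key @Smooth inferInstance⟩

/-- Points over a principal localisation of a henselian pair of a smooth algebra having points over the
completion. -/
theorem exists_point_away {A Ah : Type u} [CommRing A] [CommRing Ah] (t : A) [HenselianRing A (Ideal.span {t})]
    (hbd : ∃ N : ℕ, ∀ a : A, (∃ m : ℕ, t ^ m * a = 0) → t ^ N * a = 0)
    (φ : A →+* Ah) (e : ∀ L : ℕ, Ah →+* A ⧸ Ideal.span {t} ^ L)
    (he : ∀ L a, e L (φ a) = Ideal.Quotient.mk _ a)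
    (B' : Type u) [CommRing B'] [Algebra (Localization.Away t) B'] [Algebra.Smooth (Localization.Away t) B']
    (σ : B' →+* Localization.Away (φ t))
    (hσ : σ.comp (algebraMap (Localization.Away t) B') = Localization.awayMap φ t) :
    ∃ τ : B' →ₐ[Localization.Away t] Localization.Away t, True := by
  classical
  letI := φ.toAlgebra
  let Aht := Localization.Away (φ t)
  let At := Localization.Away t
  haveI : Algebra.FiniteType At B' := inferInstance
  obtain ⟨d, π, hπ⟩ := Algebra.FiniteType.iff_quotient_mvPolynomial''.1 ‹Algebra.FiniteType At B'›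
  choose k num hk using fun i => IsLocalization.Away.surj (φ t) (σ (π (MvPolynomial.X i)))
  let K := Finset.univ.sup k
  let y : Fin d → B' := fun i => algebraMap At B' (algebraMap A At t) ^ K * π (MvPolynomial.X i)
  let z : Fin d → Ah := fun i => φ t ^ (K - k i) * num i
  letI : Algebra A B' := ((algebraMap At B').comp (algebraMap A At)).toAlgebra
  haveI : IsScalarTower A At B' := IsScalarTower.of_algebraMap_eq fun _ => rfl
  have hσA : ∀ a : A, σ (algebraMap A B' a) = algebraMap Ah Aht (φ a) := fun a => by
    show σ.comp (algebraMap At B') (algebraMap A At a) = _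
    rw [hσ]
    exact IsLocalization.map_eq _ _
  have hσy : ∀ i, σ (y i) = algebraMap Ah Aht (z i) := fun i => by
    have : K = (K - k i) + k i := (Nat.sub_add_cancel (Finset.le_sup (Finset.mem_univ i))).symm
    show σ (algebraMap A B' t ^ K * _) = _
    rw [map_mul σ, map_pow σ, hσA, map_mul (algebraMap Ah Aht), map_pow, ← hk i]
    conv_lhs => rw [this, pow_add]
    exact (by intros; ring : ∀ a b c : Aht, a * b * c = a * (c * b)) _ _ _
  let ev : MvPolynomial (Fin d) A →ₐ[A] B' × Ah := MvPolynomial.aeval fun i => (y i, z i)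
  let B := ev.range
  haveI : Algebra.FiniteType A B := Algebra.FiniteType.of_surjective ev.rangeRestrict ev.rangeRestrict_surjective
  let p₁ : B →ₐ[A] B' := (AlgHom.fst A B' Ah).comp B.val
  let p₂ : B →ₐ[A] Ah := (AlgHom.snd A B' Ah).comp B.val
  have hp : ∀ b : B, σ (p₁ b) = algebraMap Ah Aht (p₂ b) := by
    rintro ⟨_, q, rfl⟩
    show σ ((ev q).1) = algebraMap Ah Aht (ev q).2
    induction q using MvPolynomial.induction_on with
    | C a =>
      rw [MvPolynomial.algHom_C]
      show σ (algebraMap A B' a) = algebraMap Ah Aht (algebraMap A Ah a)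
      exact hσA a
    | add p q hp hq => simp only [map_add, Prod.fst_add, Prod.snd_add, hp, hq]
    | mul_X p i hp => simp only [map_mul, Prod.fst_mul, Prod.snd_mul, hp, ev, MvPolynomial.aeval_X, hσy]
  let tB : B := algebraMap A B t
  have htu : IsUnit (p₁ tB) := by
    rw [show p₁ tB = algebraMap At B' (algebraMap A At t) from p₁.commutes t]
    exact (IsLocalization.Away.algebraMap_isUnit t).map _
  letI : Algebra B B' := p₁.toRingHom.toAlgebra
  haveI : IsScalarTower A B B' := IsScalarTower.of_algebraMap_eq fun a => (p₁.commutes a).symm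
  haveI : IsLocalization.Away tB B' := by
    refine IsLocalization.Away.mk tB htu (fun b => ?_) (fun a b hab => ?_)
    · obtain ⟨q, rfl⟩ := hπ b
      induction q using MvPolynomial.induction_on with
      | C c =>
        obtain ⟨m, a, ha⟩ : ∃ (m : ℕ) (a : A), c * algebraMap A At t ^ m = algebraMap A At a := IsLocalization.Away.surj t c
        refine ⟨m, algebraMap A B a, ?_⟩
        rw [← IsScalarTower.algebraMap_apply, MvPolynomial.algHom_C, ← IsScalarTower.algebraMap_apply A B B',
          IsScalarTower.algebraMap_apply A At B', IsScalarTower.algebraMap_apply A At B', ← map_pow, ← map_mul, ha]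
      | add p q hp hq =>
        obtain ⟨m, b₁, h1⟩ := hp
        obtain ⟨m', b₂, h2⟩ := hq
        refine ⟨m + m', b₁ * tB ^ m' + b₂ * tB ^ m, ?_⟩
        simp only [map_add, map_mul, map_pow, ← h1, ← h2, pow_add]
        ring
      | mul_X p i hp =>
        obtain ⟨m, b₁, h1⟩ := hp
        refine ⟨m + K, b₁ * ⟨ev (MvPolynomial.X i), _, rfl⟩, ?_⟩
        have h3 : algebraMap B B' ⟨ev (MvPolynomial.X i), _, rfl⟩ = y i := by
          show ((ev (MvPolynomial.X i)).1 : B') = _
          simp [ev]
        have h4 : algebraMap B B' tB = algebraMap At B' (algebraMap A At t) := p₁.commutes t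
        simp only [map_mul, h3, ← h1, pow_add, h4, y]
        ring
    · have h2 : algebraMap Ah Aht (p₂ a) = algebraMap Ah Aht (p₂ b) := by
        rw [← hp, ← hp]
        exact congrArg σ hab
      obtain ⟨c, hc⟩ := IsLocalization.Away.exists_of_eq (φ t) h2
      refine ⟨c, Subtype.ext (Prod.ext ?_ ?_)⟩
      · show p₁ (tB ^ c * a) = p₁ (tB ^ c * b)
        rw [map_mul p₁, map_mul p₁, show p₁ a = p₁ b from hab]
      · show p₂ (tB ^ c * a) = p₂ (tB ^ c * b)
        rw [map_mul p₂, map_mul p₂, map_pow p₂, show p₂ tB = φ t from p₂.commutes t]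
        exact hc
  haveI : IsLocalization (Algebra.algebraMapSubmonoid B (Submonoid.powers t)) B' := by
    rw [show Algebra.algebraMapSubmonoid B (Submonoid.powers t) = Submonoid.powers tB from
      (Submonoid.map_powers _ _)]
    infer_instance
  have hsm : Algebra.Smooth At (Localization (Algebra.algebraMapSubmonoid B (Submonoid.powers t))) := by
    let E : B' ≃ₐ[B] Localization (Algebra.algebraMapSubmonoid B (Submonoid.powers t)) :=
      IsLocalization.algEquiv (Algebra.algebraMapSubmonoid B (Submonoid.powers t)) _ _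
    have hE : E.toRingEquiv.toRingHom.comp (algebraMap At B') = algebraMap At _ := by
      refine IsLocalization.ringHom_ext (Submonoid.powers t) (RingHom.ext fun a => ?_)
      show E (algebraMap At B' (algebraMap A At a)) = algebraMap At _ (algebraMap A At a)
      rw [← IsScalarTower.algebraMap_apply A At B', IsScalarTower.algebraMap_apply A B B', E.commutes,
        ← IsScalarTower.algebraMap_apply A B, ← IsScalarTower.algebraMap_apply A At]
    exact Algebra.Smooth.of_equiv (AlgEquiv.ofRingEquiv (f := E.toRingEquiv) fun x => DFunLike.congr_fun hE x)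
  haveI : HenselianRing A (Ideal.span {algebraMap A A t}) := by
    rwa [Algebra.algebraMap_self, RingHom.id_apply]
  obtain ⟨N, hN⟩ := hbd
  obtain ⟨L, -, hL⟩ := Agent.Elkik88.exists_algHom_of_approx_alg (A := A) t (N := N)
    (by simpa only [Algebra.algebraMap_self, RingHom.id_apply] using hN) B hsm 0
  have hLA : algebraMap A A t = t := rfl
  rw [hLA] at hL
  let eL : Ah →ₐ[A] A ⧸ Ideal.span {t} ^ L := { e L with commutes' := he L }
  obtain ⟨τ, -⟩ := hL (eL.comp p₂)
  have hu : IsUnit ((algebraMap A At).comp τ.toRingHom tB) := by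
    show IsUnit (algebraMap A At (τ (algebraMap A B t)))
    rw [τ.commutes]
    exact IsLocalization.Away.algebraMap_isUnit t
  refine ⟨{ (IsLocalization.Away.lift tB hu : B' →+* At) with commutes' := fun x => ?_ }, trivial⟩
  have h5 : (IsLocalization.Away.lift tB hu : B' →+* At).comp (algebraMap At B') = RingHom.id At := by
    refine IsLocalization.ringHom_ext (Submonoid.powers t) (RingHom.ext fun a => ?_)
    show IsLocalization.Away.lift tB hu (algebraMap At B' (algebraMap A At a)) = algebraMap A At a
    rw [← IsScalarTower.algebraMap_apply A At B', IsScalarTower.algebraMap_apply A B B',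
      IsLocalization.Away.lift_eq]
    show algebraMap A At (τ (algebraMap A B a)) = _
    rw [τ.commutes]
    rfl
  exact DFunLike.congr_fun h5 x

/-- A torsor with a point over the completion has a point. -/
theorem hasSectionOver_id {A Ah : Type u} [CommRing A] [CommRing Ah] (t : A) [HenselianRing A (Ideal.span {t})]
    (hbd : ∃ N : ℕ, ∀ a : A, (∃ m : ℕ, t ^ m * a = 0) → t ^ N * a = 0)
    (φ : A →+* Ah) (e : ∀ L : ℕ, Ah →+* A ⧸ Ideal.span {t} ^ L)
    (he : ∀ L a, e L (φ a) = Ideal.Quotient.mk _ a)
    {G P : Over (Spec (CommRingCat.of (Localization.Away t)))} [GrpObj G] [IsAffine G.left] [Smooth G.hom]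
    {a : AlgGrp.Action G P} (h : NonAbH1.IsTorsorFor Scheme.fppfPrecoverage a)
    (hsec : NonAbH1.HasSectionOver P (Spec.map (CommRingCat.ofHom (Localization.awayMap φ t)))) :
    NonAbH1.HasSectionOver P (𝟙 (Spec (CommRingCat.of (Localization.Away t)))) := by
  obtain ⟨hP, hsm⟩ := torsor_props h
  let At := Localization.Away t
  let ρ : CommRingCat.of At ⟶ Γ(P.left, ⊤) := Spec.preimage (P.left.isoSpec.inv ≫ P.hom)
  have hρ : Spec.map ρ = P.left.isoSpec.inv ≫ P.hom := Spec.map_preimage _
  letI : Algebra At Γ(P.left, ⊤) := ρ.hom.toAlgebra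
  haveI : Algebra.Smooth At Γ(P.left, ⊤) := by
    have h1 : Smooth (Spec.map ρ) := hρ ▸ inferInstance
    exact (HasRingHomProperty.Spec_iff (P := @Smooth)).mp h1
  obtain ⟨s, hs⟩ := hsec
  let σ := Spec.preimage (s ≫ P.left.isoSpec.hom)
  obtain ⟨τ, -⟩ := exists_point_away t hbd φ e he Γ(P.left, ⊤) σ.hom (by
    have : ρ ≫ σ = CommRingCat.ofHom (Localization.awayMap φ t) := Spec.map_injective (by
      rw [Spec.map_comp, hρ, Spec.map_preimage, Category.assoc, Iso.hom_inv_id_assoc, hs])
    exact congrArg CommRingCat.Hom.hom this)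
  refine ⟨Spec.map (CommRingCat.ofHom τ.toRingHom) ≫ P.left.isoSpec.inv, ?_⟩
  rw [Category.assoc, ← hρ, ← Spec.map_comp, show ρ ≫ CommRingCat.ofHom τ.toRingHom = 𝟙 _ from
    CommRingCat.hom_ext τ.comp_algebraMap, Spec.map_id]

end Groth.Agent.GITLib.Elkik
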